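import Cfsg.Agent.Lib.Local.FS.Fitting.Factor
import Cfsg.Agent.Lib.Local.FS.Layer.Exists
import Cfsg.Agent.Lib.Local.FS.CoreCentralizer

/-!
The generalized Fitting subsystem exists and is normal.
-/

set_option autoImplicit false

namespace Cfsg.Agent.Local.FS.Fitting

open Cfsg Cfsg.FusionSystem Cfsg.Agent.Fusion Cfsg.Agent.Local.FS

universe u

variable {Ω : Type u} [Group Ω] {S T : Subgroup Ω} {F : FusionSystem S} {E : FusionSystem T}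
  {p : ℕ} [Finite S] [Fact p.Prime]

theorem ctx_of_layer (hS : IsPGroup p S) (hF : F.IsSaturated p) (hE : E.IsLayerOf F p) : Ctx F E p := by
  obtain ⟨C, hC, hCe⟩ := exists_coreCentralizer hS hF
  have hCc : ∀ (U : Subgroup Ω) (B : FusionSystem U), B.IsComponentIn F p → B.IsSubsystemOf C :=
    fun U B hB R ψ hψ => (hCe R).ge (component_mem_centralizerHom hS hF hB hψ)
  have hEC : E.IsSubsystemOf C := hE.2.2 _ C hC hCc
  have hTC : T ≤ centralizerIn S F.core := le_of_sub hEC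
  have c : Meet.Ctx F C E p := ⟨hS, hF, hC, hE.1⟩
  have hEM : E.IsSubsystemOf c.sys := hE.2.2 _ _ c.sys_normal fun U B hB =>
    Layer.component_sub hS hF hB c.sys_normal (le_inf (le_of_sub (hCc U B hB)) (le_of_sub (hE.2.1 U B hB)))
  obtain ⟨M, hMC, hEM'⟩ : ∃ M : FusionSystem T, M.IsNormalIn C p ∧ E.IsSubsystemOf M :=
    Eq.rec (motive := fun V _ => ∃ M : FusionSystem V, M.IsNormalIn C p ∧ E.IsSubsystemOf M)
      ⟨c.sys, c.sys_normal₁, hEM⟩ (inf_eq_right.2 hTC : centralizerIn S F.core ⊓ T = T)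
  refine ⟨hS, hF, hE.1, hTC, fun P f hf => ?_, fun a ha => ?_⟩
  · obtain ⟨φ, hφ, he⟩ := hf
    have h1 : φ ∈ F.centralizerHom F.core P := (hCe P).le (hEC P hφ)
    obtain ⟨-, -, g, hg, hgφ, hgQ⟩ := mem_centralizerHom.1 h1
    exact ⟨g, hg, fun x hx => (hgφ ⟨x, hx⟩).symm.trans (he ⟨x, hx⟩), hgQ⟩
  · haveI := finite_of_le hE.1.1.2.2.2.1.1
    obtain ⟨β, hβ, hβT, hβC⟩ := hMC.2 a (autGroup_le_of_sub hEM' le_rfl ha)
    have hHT : T ⊔ centralizerIn (centralizerIn S F.core) T ≤ centralizerIn S F.core := sup_le hTC inf_le_left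
    obtain ⟨φ, hφ, he⟩ := map_of_mem_autGroup hHT hβ
    have h1 : φ ∈ F.centralizerHom F.core _ := (hCe _).le hφ
    obtain ⟨-, -, g, hg, hgφ, hgQ⟩ := mem_centralizerHom.1 h1
    have hval : ∀ x ∈ T ⊔ centralizerIn (centralizerIn S F.core) T, g x = av β x := fun x hx =>
      (hgφ ⟨x, hx⟩).symm.trans (he ⟨x, hx⟩)
    have hcc : centralizerIn S (F.core ⊔ T) ≤ centralizerIn (centralizerIn S F.core) T := fun x hx =>
      mem_centralizerIn.2 ⟨mem_centralizerIn.2 ⟨hx.1, fun q hq =>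
        (mem_centralizerIn.1 hx).2 q (Subgroup.mem_sup_left hq)⟩, fun t ht =>
        (mem_centralizerIn.1 hx).2 t (Subgroup.mem_sup_right ht)⟩
    refine ⟨g, hg.restrict (sup_le_sup_right (sup_le_sup_left hcc _) _), fun x hx => ?_, hgQ, fun x hx => ?_⟩
    · rw [hval x (Subgroup.mem_sup_left hx), av_apply β (Subgroup.mem_sup_left hx), av_apply a hx]
      exact hβT ⟨x, hx⟩
    · have hxm : x ∈ T ⊔ centralizerIn (centralizerIn S F.core) T := Subgroup.mem_sup_right (hcc hx)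
      rw [hval x hxm, av_apply β hxm]
      exact hβC ⟨x, hxm⟩ (hcc hx)

theorem fitting_normal (hS : IsPGroup p S) (hF : F.IsSaturated p) {U : Subgroup Ω} {D : FusionSystem U}
    (hD : D.IsGeneralizedFittingOf F p) : D.IsNormalIn F p := by
  obtain ⟨T, E, hE, D₀, hD₀, Z, θ, hZc, -, -, h₁, h₂, hfac⟩ := hD
  have c := ctx_of_layer hS hF hE
  have hθ := theta_eq (F := F) h₁ h₂
  obtain rfl : U = c.U := hfac.2.2.1.symm.trans (c.range_eq hθ)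
  have hfac' := c.isFactor hD₀ hθ hfac.1 hfac.2.1
  have heq : D = c.sys := eq_of_map_iff fun P f =>
    ⟨fun ⟨φ, hφ, he⟩ => ⟨φ, (hfac'.2.2.2 P φ).2 ((hfac.2.2.2 P φ).1 hφ), he⟩,
      fun ⟨φ, hφ, he⟩ => ⟨φ, (hfac.2.2.2 P φ).2 ((hfac'.2.2.2 P φ).1 hφ), he⟩⟩
  exact heq ▸ c.sys_normal hD₀ hθ hZc hfac'

theorem exists_fitting (hS : IsPGroup p S) (hF : F.IsSaturated p) :
    ∃ (U : Subgroup Ω) (D : FusionSystem U), D.IsGeneralizedFittingOf F p := by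
  obtain ⟨T, E, hE⟩ := Layer.exists_layer hS hF
  have c := ctx_of_layer hS hF hE
  obtain ⟨D₀, hD₀⟩ : ∃ D₀ : FusionSystem (F.core.prod T), IsProductSystem (innerFusionSystem F.core) E D₀ :=
    ⟨prodSys _ _, fun P φ => prodMap_iff _ _⟩
  obtain ⟨θ, hθ⟩ : ∃ θ : ↥(F.core.prod T) →* Ω,
      ∀ x : ↥(F.core.prod T), θ x = (x : Ω × Ω).1 * (x : Ω × Ω).2 :=
    ⟨MonoidHom.mk' (fun x => (x : Ω × Ω).1 * (x : Ω × Ω).2) fun x y => by
      show (x : Ω × Ω).1 * (y : Ω × Ω).1 * ((x : Ω × Ω).2 * (y : Ω × Ω).2) = _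
      rw [mul_assoc, ← mul_assoc (y : Ω × Ω).1, c.comm y.2.1 x.2.2]
      group, fun _ => rfl⟩
  obtain ⟨Z, hZd⟩ : ∃ Z, Z = θ.ker.map (F.core.prod T).subtype := ⟨_, rfl⟩
  have hZ : Z ≤ F.core.prod T := hZd ▸ Subgroup.map_subtype_le _
  have hker : ∀ x : ↥(F.core.prod T), θ x = 1 ↔ (x : Ω × Ω) ∈ Z := by
    intro x
    subst hZd
    refine ⟨fun h => ⟨x, h, rfl⟩, fun ⟨y, hy, he⟩ => ?_⟩
    obtain rfl : y = x := Subtype.ext he
    exact hy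
  have hmul : ∀ z ∈ Z, z.1 ∈ F.core ⊓ T ∧ z.2 ∈ F.core ⊓ T ∧ z.1 * z.2 = 1 := fun z hz => by
    have h1 := (hker ⟨z, hZ hz⟩).2 hz
    rw [hθ] at h1
    have e : z.2 = z.1⁻¹ := (inv_eq_of_mul_eq_one_right h1).symm
    exact ⟨⟨(hZ hz).1, by simpa [e] using T.inv_mem (hZ hz).2⟩,
      ⟨e ▸ F.core.inv_mem (hZ hz).1, (hZ hz).2⟩, h1⟩
  have hZc : Z ≤ D₀.center := by
    refine le_sSup (α := Subgroup (Ω × Ω)) (show D₀.IsCentral Z from ⟨hZ, fun P φ hφ => ?_⟩)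
    obtain ⟨hP, f₁, f₂, ⟨φ₁, ⟨-, u, hu, hu'⟩, he₁⟩, h₂, he⟩ := (prod_map_iff hD₀).1 (map_of_mem hφ)
    obtain ⟨g, hg, hgf, hgW⟩ := c.exists_ext_sub h₂
    have hPZ : P ⊔ Z ≤ F.core.prod T := sup_le hP hZ
    have hg₁ : Map (innerFusionSystem F.core) (pr₁ (P ⊔ Z)) (fun x => u * x * u⁻¹) := map_conjBy (pr_le hPZ).1 hu
    have hg₂ : Map E (pr₂ (P ⊔ Z)) g := hg.restrict (by
      show (P ⊔ Z).map _ ≤ _
      rw [Subgroup.map_sup]
      refine sup_le_sup le_rfl ?_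
      rintro _ ⟨z, hz, rfl⟩
      exact (hmul z hz).2.1)
    obtain ⟨ψ, hψ, hψe⟩ := (prod_map_iff hD₀).2 ⟨hPZ, _, g, hg₁, hg₂, fun x _ => rfl⟩
    refine ⟨ψ, hψ, fun x => ?_, fun z => ?_⟩
    · rw [hψe, ← fn_coe φ x, he x x.2]
      show (u * (x : Ω × Ω).1 * u⁻¹, g (x : Ω × Ω).2) = _
      rw [hgf _ (mem_pr₂ x.2), ← he₁ ⟨(x : Ω × Ω).1, mem_pr₁ x.2⟩, hu']
    · rw [hψe]
      obtain ⟨hz₁, hz₂, -⟩ := hmul z z.2
      show (u * (z : Ω × Ω).1 * u⁻¹, g (z : Ω × Ω).2) = _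
      rw [c.conj_fix hu hz₁.2, hgW _ hz₂]
  refine ⟨c.U, c.sys, T, E, hE, D₀, hD₀, Z, θ, hZc, eq_bot_iff.2 ?_, eq_bot_iff.2 ?_,
    fun x hx => by rw [hθ]; exact mul_one x, fun y hy => by rw [hθ]; exact one_mul y,
    c.isFactor hD₀ hθ hZ hker⟩
  · rintro ⟨a, b⟩ ⟨hz, -, hb⟩
    obtain ⟨-, -, h1⟩ := hmul _ hz
    obtain rfl : b = 1 := Subgroup.mem_bot.1 hb
    exact Subgroup.mem_bot.2 (Prod.ext (by simpa using h1) rfl)
  · rintro ⟨a, b⟩ ⟨hz, ha, -⟩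
    obtain ⟨-, -, h1⟩ := hmul _ hz
    obtain rfl : a = 1 := Subgroup.mem_bot.1 ha
    exact Subgroup.mem_bot.2 (Prod.ext rfl (by simpa using h1))

end Cfsg.Agent.Local.FS.Fitting
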