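import Cfsg.Agent.Lib.Local.FS.Quotient
import Cfsg.Agent.Lib.Local.FS.InvariantCriterion
import Cfsg.Agent.Lib.Local.FS.ComponentCore
import Cfsg.Agent.Lib.Local.FS.PowerIndex
import Cfsg.Prelude.Def_FusionFitting

/-!
Products of the core with a normal subsystem centralizing it: the maps.
-/

set_option autoImplicit false

namespace Cfsg.Agent.Local.FS.Fitting

open Cfsg Cfsg.FusionSystem Cfsg.Agent.Fusion Cfsg.Agent.Local.FS

universe u

variable {Ω : Type u} [Group Ω] {S T : Subgroup Ω} {F : FusionSystem S} {E : FusionSystem T}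
  {P R : Subgroup Ω} {f g : Ω → Ω} {p : ℕ}

/-- A normal subsystem centralizing the core. -/
structure Ctx (F : FusionSystem S) (E : FusionSystem T) (p : ℕ) : Prop where
  pS : IsPGroup p S
  sat : F.IsSaturated p
  normal : E.IsNormalIn F p
  cent : T ≤ centralizerIn S F.core
  ext : ∀ (P : Subgroup Ω) (f : Ω → Ω), Map E P f →
    ∃ g, Map F (P ⊔ F.core) g ∧ (∀ x ∈ P, g x = f x) ∧ ∀ q ∈ F.core, g q = q
  extTop : ∀ a ∈ E.autGroup T, ∃ g, Map F (T ⊔ centralizerIn S (F.core ⊔ T) ⊔ F.core) g ∧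
    (∀ x ∈ T, g x = av a x) ∧ (∀ q ∈ F.core, g q = q) ∧
    ∀ x ∈ centralizerIn S (F.core ⊔ T), x⁻¹ * g x ∈ T ⊓ Subgroup.centralizer (T : Set Ω)

/-- The base of the product. -/
abbrev Ctx.U (_c : Ctx F E p) : Subgroup Ω := F.core ⊔ T

variable (c : Ctx F E p)
include c

theorem Ctx.inv : E.IsInvariantIn F := c.normal.1.2.2

theorem Ctx.tT : F.StronglyClosed T := c.inv.2.1

theorem Ctx.comm {q t : Ω} (hq : q ∈ F.core) (ht : t ∈ T) : q * t = t * q :=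
  (mem_centralizerIn.1 (c.cent ht)).2 q hq

theorem Ctx.conj_fix {q t : Ω} (hq : q ∈ F.core) (ht : t ∈ T) : q * t * q⁻¹ = t := by
  rw [c.comm hq ht, mul_inv_cancel_right]

/-- The maps of the product. -/
def Ctx.DMap (P : Subgroup Ω) (f : Ω → Ω) : Prop :=
  P ≤ c.U ∧ ∃ u ∈ F.core, ∃ g, Map F (P ⊔ F.core) g ∧ (∀ q ∈ F.core, g q = q) ∧
    Map E ((P ⊔ F.core) ⊓ T) g ∧ ∀ x ∈ P, f x = u * g x * u⁻¹

variable [Finite S] [Fact p.Prime]

theorem Ctx.qN : F.IsNormal F.core := core_normal c.pS c.sat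

theorem Ctx.qS : F.core ≤ S := c.qN.1

theorem Ctx.tQ : F.StronglyClosed F.core := normal_stronglyClosed c.qN

theorem Ctx.uS : c.U ≤ S := sup_le c.qS c.tT.1

theorem Ctx.tU : F.StronglyClosed c.U := stronglyClosed_sup c.pS c.sat c.tQ c.tT

theorem Ctx.exists_split {x : Ω} (hx : x ∈ c.U) : ∃ q ∈ F.core, ∃ t ∈ T, x = q * t := by
  obtain ⟨a, ha, b, hb, rfl⟩ := mem_sup_of_normalized (stronglyClosed_le_normalizer c.tT) c.qS hx
  exact ⟨a, ha, b, hb, rfl⟩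

theorem Ctx.fixed (hf : Map E P f) {x : Ω} (hx : x ∈ P) (hxQ : x ∈ F.core) : f x = x := by
  obtain ⟨g, -, hgf, hgQ⟩ := c.ext P f hf
  rw [← hgf x hx, hgQ x hxQ]

/-- The intersection with the core is central in the subsystem. -/
theorem Ctx.exists_ext_sub (hf : Map E P f) :
    ∃ g, Map E (P ⊔ F.core ⊓ T) g ∧ (∀ x ∈ P, g x = f x) ∧ ∀ w ∈ F.core ⊓ T, g w = w := by
  haveI := finite_of_le c.tT.1
  let K : Subgroup Ω → (Ω → Ω) → Prop := fun P f =>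
    ∃ g, Map E (P ⊔ F.core ⊓ T) g ∧ (∀ x ∈ P, g x = f x) ∧ ∀ w ∈ F.core ⊓ T, g w = w
  have hK : IsClosedClass E K := by
    refine ⟨?_, ?_, ?_, ?_⟩
    · rintro P f g ⟨k, hk, hkf, hkW⟩ he
      exact ⟨k, hk, fun x hx => (hkf x hx).trans (he x hx), hkW⟩
    · rintro P R f - ⟨k, hk, hkf, hkW⟩ hR
      exact ⟨k, hk.restrict (sup_le_sup_right hR _), fun x hx => hkf x (hR hx), hkW⟩
    · rintro P R f g - - ⟨k, hk, hkf, hkW⟩ ⟨l, hl, hlg, hlW⟩ hm
      refine ⟨l ∘ k, hk.comp hl fun x hx => ?_, fun x hx => ?_, fun w hw => ?_⟩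
      · exact (show im P k ⊔ im (F.core ⊓ T) k ≤ R ⊔ F.core ⊓ T from
          sup_le_sup (im_le_iff.2 fun y hy => by rw [hkf y hy]; exact hm y hy)
            (im_le_iff.2 fun y hy => by rw [hkW y hy]; exact hy)) (hk.im_sup_le (mem_im_of_mem hx))
      · show l (k x) = g (f x)
        rw [hkf x hx, hlg _ (hm x hx)]
      · show l (k w) = w
        rw [hkW w hw, hlW w hw]
    · rintro P f g hf ⟨k, hk, hkf, hkW⟩ hg
      obtain ⟨l, hl, hlk, -, -⟩ := hk.exists_inv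
      refine ⟨l, hl.restrict (sup_le ((im_congr hkf).symm.le.trans (im_mono le_sup_left)) fun w hw =>
        hkW w hw ▸ mem_im_of_mem (Subgroup.mem_sup_right hw)), fun y hy => ?_, fun w hw => ?_⟩
      · obtain ⟨x, hx, rfl⟩ := hf.mem_im.1 hy
        rw [hg x hx, ← hkf x hx, hlk x (Subgroup.mem_sup_left hx)]
      · conv_lhs => rw [← hkW w hw]
        exact hlk w (Subgroup.mem_sup_right hw)
  refine alperin (c.pS.to_le c.tT.1) c.normal.1.1 hK (fun R hR a ha => ?_) P f hf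
  obtain ⟨hRT, hW⟩ : R ≤ T ∧ F.core ⊓ T ≤ R := by
    rcases hR with rfl | hR
    · exact ⟨le_rfl, inf_le_right⟩
    · exact ⟨hR.1.1, fun w hw => centric_inv_mem hR.1 hw.2 fun y hy => (c.comm hw.1 (hR.1.1 hy)).symm⟩
  have hm := map_of_mem_autGroup hRT ha
  exact ⟨av a, by rwa [sup_eq_left.2 hW], fun _ _ => rfl, fun w hw => c.fixed hm (hW hw) hw.1⟩

variable {c}

theorem Ctx.DMap.congr (h : c.DMap P f) (he : ∀ x ∈ P, f x = g x) : c.DMap P g :=
  let ⟨hP, u, hu, k, hk, hkQ, hkE, hkf⟩ := h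
  ⟨hP, u, hu, k, hk, hkQ, hkE, fun x hx => (he x hx).symm.trans (hkf x hx)⟩

theorem Ctx.DMap.restrict (h : c.DMap P f) (hR : R ≤ P) : c.DMap R f :=
  let ⟨hP, u, hu, k, hk, hkQ, hkE, hkf⟩ := h
  ⟨hR.trans hP, u, hu, k, hk.restrict (sup_le_sup_right hR _), hkQ,
    hkE.restrict (inf_le_inf_right _ (sup_le_sup_right hR _)), fun x hx => hkf x (hR hx)⟩

theorem Ctx.DMap.toMap (h : c.DMap P f) : Map F P f := by
  obtain ⟨-, u, hu, k, hk, -, -, hkf⟩ := h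
  have hk' := hk.restrict (le_sup_left : P ≤ P ⊔ F.core)
  exact (hk'.comp (map_conjBy hk'.im_le (c.qS hu)) fun x hx => mem_im_of_mem hx).congr
    fun x hx => (hkf x hx).symm

theorem Ctx.DMap.mem (h : c.DMap P f) {x : Ω} (hx : x ∈ P) : f x ∈ c.U :=
  stronglyClosed_map c.tU h.toMap hx (h.1 hx)

theorem Ctx.DMap.comp {f' : Ω → Ω} (h : c.DMap P f) (h' : c.DMap R f') (hm : ∀ x ∈ P, f x ∈ R) :
    c.DMap P (f' ∘ f) := by
  obtain ⟨hP, u, hu, k, hk, hkQ, hkE, hkf⟩ := h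
  obtain ⟨hR, v, hv, l, hl, hlQ, hlE, hlf⟩ := h'
  have hkm : ∀ x ∈ P ⊔ F.core, k x ∈ R ⊔ F.core := fun x hx =>
    (show im P k ⊔ im F.core k ≤ R ⊔ F.core from sup_le (im_le_iff.2 fun y hy => by
        have h1 := Subgroup.mul_mem _ (Subgroup.mul_mem _ (Subgroup.mem_sup_right (S := R) (F.core.inv_mem hu))
          (Subgroup.mem_sup_left (hm y hy))) (Subgroup.mem_sup_right (S := R) hu)
        rw [hkf y hy] at h1
        simpa [mul_assoc] using h1)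
      (im_le_iff.2 fun q hq => by rw [hkQ q hq]; exact Subgroup.mem_sup_right hq)) (hk.im_sup_le (mem_im_of_mem hx))
  refine ⟨hP, v * u, F.core.mul_mem hv hu, l ∘ k, hk.comp hl hkm, fun q hq => ?_,
    hkE.comp hlE fun x hx => ⟨hkm x hx.1, hkE.mem hx⟩, fun x hx => ?_⟩
  · show l (k q) = q
    rw [hkQ q hq, hlQ q hq]
  · show f' (f x) = _
    rw [hlf _ (hm x hx), hkf x hx, hl.map_conj (Subgroup.mem_sup_right hu) (hkm x (Subgroup.mem_sup_left hx)),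
      hlQ u hu]
    show v * (u * l (k x) * u⁻¹) * v⁻¹ = v * u * l (k x) * (v * u)⁻¹
    group

theorem Ctx.DMap.inv (h : c.DMap P f) (hg : ∀ x ∈ P, g (f x) = x) : c.DMap (im P f) g := by
  have hfm := h.toMap
  obtain ⟨hP, u, hu, k, hk, hkQ, hkE, hkf⟩ := h
  obtain ⟨l, hl, hlk, -, -⟩ := hk.exists_inv
  obtain ⟨l', hl', hl'k, -, -⟩ := hkE.exists_inv
  have hconj : ∀ x ∈ P, u * x * u⁻¹ ∈ P ⊔ F.core ∧ k (u * x * u⁻¹) = f x := fun x hx =>
    ⟨Subgroup.mul_mem _ (Subgroup.mul_mem _ (Subgroup.mem_sup_right hu) (Subgroup.mem_sup_left hx))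
      (Subgroup.inv_mem _ (Subgroup.mem_sup_right hu)), by
      rw [hk.map_conj (Subgroup.mem_sup_right hu) (Subgroup.mem_sup_left hx), hkQ u hu, hkf x hx]⟩
  have hle : im P f ⊔ F.core ≤ im (P ⊔ F.core) k := sup_le (im_le_iff.2 fun x hx =>
    (hconj x hx).2 ▸ mem_im_of_mem (hconj x hx).1)
    fun q hq => hkQ q hq ▸ mem_im_of_mem (Subgroup.mem_sup_right hq)
  refine ⟨im_le_iff.2 fun x hx => stronglyClosed_map c.tU hfm hx (hP hx), u⁻¹, F.core.inv_mem hu, l,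
    hl.restrict hle, fun q hq => ?_, ?_, fun y hy => ?_⟩
  · conv_lhs => rw [← hkQ q hq]
    exact hlk q (Subgroup.mem_sup_right hq)
  · have hback : ∀ y ∈ (im P f ⊔ F.core) ⊓ T, ∃ z ∈ (P ⊔ F.core) ⊓ T, k z = y := fun y hy => by
      obtain ⟨z, hz, rfl⟩ := hk.mem_im.1 (hle hy.1)
      refine ⟨z, ⟨hz, ?_⟩, rfl⟩
      rw [← hlk z hz]
      exact stronglyClosed_map c.tT hl (mem_im_of_mem hz) hy.2
    refine (hl'.restrict fun y hy => ?_).congr fun y hy => ?_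
    · obtain ⟨z, hz, rfl⟩ := hback y hy
      exact mem_im_of_mem hz
    · obtain ⟨z, hz, rfl⟩ := hback y hy
      rw [hl'k z hz, hlk z hz.1]
  · obtain ⟨x, hx, rfl⟩ := hfm.mem_im.1 hy
    rw [hg x hx, ← (hconj x hx).2, hlk _ (hconj x hx).1]
    group

variable (c)

theorem Ctx.dmap_conjBy (hP : P ≤ c.U) {w : Ω} (hw : w ∈ c.U) : c.DMap P (fun x => w * x * w⁻¹) := by
  obtain ⟨q, hq, t, ht, rfl⟩ := c.exists_split hw
  refine ⟨hP, q, hq, fun x => t * x * t⁻¹, map_conjBy (sup_le (hP.trans c.uS) c.qS) (c.tT.1 ht),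
    fun x hx => ?_, map_conjBy inf_le_right ht, fun x _ => by group⟩
  show t * x * t⁻¹ = x
  rw [← c.comm hx ht, mul_inv_cancel_right]

/-- The product system. -/
def Ctx.sys : FusionSystem c.U where
  Hom P := {φ | φ ∈ F.Hom P ∧ c.DMap P (fn φ)}
  le_of_mem {P φ} hφ := ⟨hφ.2.1, fun x => by rw [← fn_coe φ x]; exact hφ.2.mem x.2⟩
  injective_of_mem hφ := F.injective_of_mem hφ.1
  conj_mem {P g} hP hg := ⟨F.conj_mem (hP.trans c.uS) (c.uS hg),
    (c.dmap_conjBy hP hg).congr fun x hx => by rw [fn_apply (conjHom P g) hx]; rfl⟩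
  comp_mem {P Q φ ψ} hφ hψ hm := ⟨F.comp_mem hφ.1 hψ.1 hm,
    (hφ.2.comp hψ.2 fun x hx => by rw [fn_apply φ hx]; exact hm _).congr fun x hx => by
      show fn ψ (fn φ x) = _
      rw [fn_apply φ hx, fn_apply ψ (hm _), fn_apply _ hx]; rfl⟩
  inv_mem {P φ} hφ := by
    obtain ⟨ψ, hψ, hψφ⟩ := F.inv_mem hφ.1
    refine ⟨ψ, ⟨hψ, ?_⟩, hψφ⟩
    have key : c.DMap (im P (fn φ)) (fn ψ) := hφ.2.inv fun x hx => by
      rw [fn_apply φ hx, fn_apply ψ ⟨⟨x, hx⟩, rfl⟩, hψφ ⟨x, hx⟩]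
    rwa [(map_of_mem hφ.1).im_eq_range fun x => (fn_coe φ x).symm] at key

theorem Ctx.map_sys : Map c.sys P f ↔ c.DMap P f := by
  constructor
  · rintro ⟨φ, hφ, he⟩
    exact hφ.2.congr fun x hx => by rw [fn_apply φ hx]; exact he ⟨x, hx⟩
  · intro hf
    obtain ⟨φ, hφ, he⟩ := hf.toMap
    exact ⟨φ, ⟨hφ, hf.congr fun x hx => by rw [fn_apply φ hx]; exact (he ⟨x, hx⟩).symm⟩, he⟩

theorem Ctx.sys_sub : c.sys.IsSubsystemOf F := fun _ _ hφ => hφ.1

theorem Ctx.sys_strongInv : StrongInv c.sys F := by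
  intro A B f g hAB hBU hf hfB hg
  obtain ⟨hA, u, hu, k, hk, hkQ, hkE, hkf⟩ := c.map_sys.1 hf
  obtain ⟨G, hG, hGg, hGQ⟩ := (normal_iff.1 c.qN).2 B g hg
  have hABQ : A ⊔ F.core ≤ B ⊔ F.core := sup_le_sup_right hAB _
  have hkm : ∀ x ∈ A ⊔ F.core, k x ∈ B ⊔ F.core := fun x hx =>
    (show im A k ⊔ im F.core k ≤ B ⊔ F.core from sup_le (im_le_iff.2 fun y hy => by
        have h1 := Subgroup.mul_mem _ (Subgroup.mul_mem _ (Subgroup.mem_sup_right (S := B) (F.core.inv_mem hu))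
          (Subgroup.mem_sup_left (hfB y hy))) (Subgroup.mem_sup_right (S := B) hu)
        rw [hkf y hy] at h1
        simpa [mul_assoc] using h1)
      (im_le_iff.2 fun q hq => by rw [hkQ q hq]; exact Subgroup.mem_sup_right hq)) (hk.im_sup_le (mem_im_of_mem hx))
  have hGA := hG.restrict hABQ
  obtain ⟨j, hj, hjG, -, -⟩ := hGA.exists_inv
  obtain ⟨h, hh, hhe⟩ := (isInvariantIn_iff c.pS c.sat c.inv.1 c.tT).1 c.inv _ ((B ⊔ F.core) ⊓ T) k G
    (inf_le_inf_right _ hABQ) inf_le_right hkE (fun x hx => ⟨hkm x hx.1, hkE.mem hx⟩) (hG.restrict inf_le_left)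
  have hle : im A g ⊔ F.core ≤ im (A ⊔ F.core) G :=
    sup_le ((im_congr fun x hx => (hGg x (hAB hx)).symm).le.trans (im_mono le_sup_left))
      (hGQ.ge.trans (im_mono le_sup_right))
  have huG : G u ∈ F.core := hGQ.le (mem_im_of_mem hu)
  have hval : ∀ x ∈ A, G u * G (k x) * (G u)⁻¹ = g (f x) := fun x hx => by
    rw [← hG.map_conj (Subgroup.mem_sup_right hu) (hkm x (Subgroup.mem_sup_left hx)), ← hkf x hx,
      hGg _ (hfB x hx)]
  refine ⟨fun y => G u * G (k (j y)) * (G u)⁻¹, c.map_sys.2 ⟨im_le_iff.2 fun x hx =>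
    stronglyClosed_map c.tU hg (hAB hx) (hA hx), G u, huG, G ∘ k ∘ j,
    ?_, fun q hq => ?_, ?_, fun y _ => rfl⟩, fun x hx => ?_⟩
  · refine ((hj.comp hk fun y hy => ?_).comp hG fun y hy => ?_).restrict hle
    · obtain ⟨z, hz, rfl⟩ := hGA.mem_im.1 hy
      rw [hjG z hz]; exact hz
    · obtain ⟨z, hz, rfl⟩ := hGA.mem_im.1 hy
      show k (j (G z)) ∈ _
      rw [hjG z hz]; exact hkm z hz
  · obtain ⟨r, hr, rfl⟩ := (hG.restrict le_sup_right).mem_im.1 (hGQ.ge hq)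
    show G (k (j (G r))) = G r
    rw [hjG r (Subgroup.mem_sup_right hr), hkQ r hr]
  · have hback : ∀ y ∈ (im A g ⊔ F.core) ⊓ T, ∃ z ∈ (A ⊔ F.core) ⊓ T, G z = y := fun y hy => by
      obtain ⟨z, hz, rfl⟩ := hGA.mem_im.1 (hle hy.1)
      refine ⟨z, ⟨hz, ?_⟩, rfl⟩
      rw [← hjG z hz]
      exact stronglyClosed_map c.tT hj (mem_im_of_mem hz) hy.2
    refine (hh.restrict fun y hy => ?_).congr fun y hy => ?_
    · obtain ⟨z, hz, rfl⟩ := hback y hy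
      exact mem_im_of_mem hz
    · obtain ⟨z, hz, rfl⟩ := hback y hy
      show h (G z) = G (k (j (G z)))
      rw [hhe z hz, hjG z hz.1]
  · show G u * G (k (j (g x))) * (G u)⁻¹ = g (f x)
    rw [← hGg x (hAB hx), hjG x (Subgroup.mem_sup_left hx), hval x hx]

theorem Ctx.sys_invariant : c.sys.IsInvariantIn F :=
  (isInvariantIn_iff c.pS c.sat c.sys_sub c.tU).2 c.sys_strongInv

/-- The extension condition. -/
theorem Ctx.sys_extension {a : MulAut c.U} (ha : a ∈ c.sys.autGroup c.U) :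
    ∃ β ∈ F.autGroup (c.U ⊔ centralizerIn S c.U),
      (∀ x : c.U, ((β (Subgroup.inclusion le_sup_left x) : ↥(c.U ⊔ centralizerIn S c.U)) : Ω) = ((a x : c.U) : Ω)) ∧
      ∀ z : ↥(c.U ⊔ centralizerIn S c.U), (z : Ω) ∈ centralizerIn S c.U →
        (z : Ω)⁻¹ * ((β z : ↥(c.U ⊔ centralizerIn S c.U)) : Ω) ∈ c.U ⊓ Subgroup.centralizer (c.U : Set Ω) := by
  haveI := finite_of_le c.uS
  haveI := finite_of_le c.tT.1
  obtain ⟨-, u, hu, g, hg, hgQ, hgE, hga⟩ := c.map_sys.1 (map_of_mem_autGroup le_rfl ha)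
  have hTU : T ≤ (c.U ⊔ F.core) ⊓ T := le_inf (le_sup_right.trans le_sup_left) le_rfl
  have hgT := hgE.restrict hTU
  obtain ⟨e, he, heg⟩ := exists_aut hgT
    (Subgroup.eq_of_le_of_card_ge (im_le_iff.2 fun x hx => hgT.mem hx) hgT.card_im.ge)
  obtain ⟨G, hG, hGe, hGQ, hGs⟩ := c.extTop e he
  have hC : ∀ x ∈ centralizerIn S c.U, x ∈ T ⊔ centralizerIn S (F.core ⊔ T) ⊔ F.core := fun x hx =>
    Subgroup.mem_sup_left (Subgroup.mem_sup_right hx)
  have hle : c.U ⊔ centralizerIn S c.U ≤ T ⊔ centralizerIn S (F.core ⊔ T) ⊔ F.core :=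
    sup_le (sup_le le_sup_right (le_sup_left.trans le_sup_left)) hC
  have hG' := hG.restrict hle
  have hm := hG'.comp (map_conjBy hG'.im_le (c.qS hu)) fun x hx => mem_im_of_mem hx
  have hGU : ∀ x ∈ c.U, u * G x * u⁻¹ = av a x := fun x hx => by
    obtain ⟨q, hq, t, ht, rfl⟩ := c.exists_split hx
    rw [hga _ hx, hG.map_mul (Subgroup.mem_sup_right hq) (Subgroup.mem_sup_left (Subgroup.mem_sup_left ht)),
      hg.map_mul (Subgroup.mem_sup_right hq) (Subgroup.mem_sup_left (Subgroup.mem_sup_right ht)), hGQ q hq,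
      hgQ q hq, hGe t ht, heg t ht]
  have hfix : ∀ x ∈ centralizerIn S c.U, u * G x * u⁻¹ = G x := fun x hx => by
    obtain ⟨hz, -⟩ := hGs x hx
    have h1 : u * G x = G x * u := by
      rw [← mul_inv_cancel_left x (G x), ← mul_assoc u,
        (mem_centralizerIn.1 hx).2 u (Subgroup.mem_sup_left hu), mul_assoc x u, c.comm hu hz, ← mul_assoc x _ u]
    rw [h1, mul_inv_cancel_right]
  haveI := finite_of_le (sup_le c.uS inf_le_left : c.U ⊔ centralizerIn S c.U ≤ S)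
  obtain ⟨β, hβ, hβe⟩ := exists_aut hm (Subgroup.eq_of_le_of_card_ge (hm.im_sup_le.trans (sup_le
    ((im_le_iff.2 fun x hx => by
      show u * G x * u⁻¹ ∈ c.U
      rw [hGU x hx]; exact av_mem a hx).trans le_sup_left)
    (im_le_iff.2 fun x hx => by
      show u * G x * u⁻¹ ∈ c.U ⊔ centralizerIn S c.U
      rw [hfix x hx, ← mul_inv_cancel_left x (G x)]
      exact Subgroup.mul_mem _ (Subgroup.mem_sup_right hx) (Subgroup.mem_sup_left
        (Subgroup.mem_sup_right (hGs x hx).1))))) hm.card_im.ge)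
  refine ⟨β, hβ, fun x => ?_, fun z hz => ?_⟩
  · show ((β ⟨x, _⟩ : ↥(c.U ⊔ centralizerIn S c.U)) : Ω) = _
    rw [← av_apply β (Subgroup.mem_sup_left x.2), hβe x (Subgroup.mem_sup_left x.2)]
    show u * G x * u⁻¹ = _
    rw [hGU x x.2, av_apply a x.2]
  · rw [← av_apply β z.2, hβe z z.2]
    show (z : Ω)⁻¹ * (u * G z * u⁻¹) ∈ _
    rw [hfix z hz]
    obtain ⟨hzT, hzc⟩ := hGs z hz
    refine ⟨Subgroup.mem_sup_right hzT, Subgroup.mem_centralizer_iff.2 fun y hy => ?_⟩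
    obtain ⟨q, hq, t, ht, rfl⟩ := c.exists_split hy
    rw [mul_assoc, Subgroup.mem_centralizer_iff.1 hzc t ht, ← mul_assoc, c.comm hq hzT, mul_assoc]

end Cfsg.Agent.Local.FS.Fitting
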