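import Cfsg.Agent.Lib.Local.FS.Fitting.Basic
import Cfsg.Agent.Lib.Local.FS.ProdSat
import Cfsg.Agent.Lib.Local.FS.Factor
import Cfsg.Agent.Lib.Local.FS.FactorHyperfocal
import Cfsg.Agent.Lib.Local.FS.InnerBasic

/-!
Products of the core with a normal subsystem centralizing it: the factor system of the direct product.
-/

set_option autoImplicit false

namespace Cfsg.Agent.Local.FS.Fitting

open Cfsg Cfsg.FusionSystem Cfsg.Agent.Fusion Cfsg.Agent.Local.FS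

universe u

variable {Ω : Type u} [Group Ω] {S T : Subgroup Ω} {F : FusionSystem S} {E : FusionSystem T}
  {P : Subgroup Ω} {p : ℕ} [Finite S] [Fact p.Prime] (c : Ctx F E p)
include c

variable {D₀ : FusionSystem (F.core.prod T)} (hD₀ : IsProductSystem (innerFusionSystem F.core) E D₀)
  {θ : ↥(F.core.prod T) →* Ω}

omit [Finite S] [Fact p.Prime] c in
theorem theta_eq (h₁ : ∀ (x : Ω) (hx : ((x, 1) : Ω × Ω) ∈ F.core.prod T), θ ⟨(x, 1), hx⟩ = x)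
    (h₂ : ∀ (y : Ω) (hy : ((1, y) : Ω × Ω) ∈ F.core.prod T), θ ⟨(1, y), hy⟩ = y)
    (x : ↥(F.core.prod T)) : θ x = (x : Ω × Ω).1 * (x : Ω × Ω).2 := by
  obtain ⟨⟨a, b⟩, ha, hb⟩ := x
  have hax : ((a, 1) : Ω × Ω) ∈ F.core.prod T := ⟨ha, T.one_mem⟩
  have hby : ((1, b) : Ω × Ω) ∈ F.core.prod T := ⟨F.core.one_mem, hb⟩
  have e : (⟨(a, b), ha, hb⟩ : ↥(F.core.prod T)) = ⟨(a, 1), hax⟩ * ⟨(1, b), hby⟩ :=
    Subtype.ext (Prod.ext (mul_one a).symm (one_mul b).symm)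
  rw [e, map_mul, h₁ a hax, h₂ b hby]
  simp

variable (hθ : ∀ x : ↥(F.core.prod T), θ x = (x : Ω × Ω).1 * (x : Ω × Ω).2)
include hθ

theorem Ctx.range_eq : θ.range = c.U := by
  refine le_antisymm ?_ fun x hx => ?_
  · rintro _ ⟨x, rfl⟩
    rw [hθ]
    exact Subgroup.mul_mem_sup x.2.1 x.2.2
  · obtain ⟨q, hq, t, ht, rfl⟩ := c.exists_split hx
    exact ⟨⟨(q, t), hq, ht⟩, hθ _⟩

omit [Finite S] [Fact p.Prime] c in
theorem mem_pre {P' : Subgroup Ω} {x : Ω × Ω} :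
    x ∈ preimageAlong θ P' ↔ x ∈ F.core.prod T ∧ x.1 * x.2 ∈ P' := by
  refine ⟨?_, fun ⟨h, h'⟩ => ⟨⟨x, h⟩, show θ ⟨x, h⟩ ∈ P' by rwa [hθ], rfl⟩⟩
  rintro ⟨y, hy, rfl⟩
  have hy' : θ y ∈ P' := hy
  rw [hθ] at hy'
  exact ⟨y.2, hy'⟩

theorem Ctx.pr₂_pre {P' : Subgroup Ω} (hP : P' ≤ c.U) :
    pr₂ (preimageAlong θ P') = (P' ⊔ F.core) ⊓ T := by
  refine le_antisymm ?_ fun t ht => ?_
  · rintro _ ⟨x, hx, rfl⟩
    obtain ⟨hxm, hxP⟩ := (mem_pre hθ).1 hx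
    refine ⟨?_, hxm.2⟩
    have h1 := Subgroup.mul_mem _ (Subgroup.inv_mem _ (Subgroup.mem_sup_right (S := P') hxm.1))
      (Subgroup.mem_sup_left hxP)
    simpa using h1
  · obtain ⟨a, ha, q, hq, he⟩ := mem_sup_of_normalized (stronglyClosed_le_normalizer c.tQ) (hP.trans c.uS) ht.1
    refine ⟨(q⁻¹, t), (mem_pre hθ).2 ⟨⟨F.core.inv_mem hq, ht.2⟩, ?_⟩, rfl⟩
    show q⁻¹ * t ∈ P'
    rw [c.comm (F.core.inv_mem hq) ht.2, ← he, mul_inv_cancel_right]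
    exact ha

include hD₀

theorem Ctx.hom_iff {P' : Subgroup Ω} {φ' : P' →* Ω} :
    φ' ∈ c.sys.Hom P' ↔ P' ≤ c.U ∧ ∃ φ ∈ D₀.Hom (preimageAlong θ P'), InducedAlong θ φ φ' := by
  constructor
  · rintro ⟨-, hP, u, hu, g, hg, hgQ, hgE, hgφ⟩
    have hpre : preimageAlong θ P' ≤ F.core.prod T := fun x hx => ((mem_pre hθ).1 hx).1
    have h₁ : Map (innerFusionSystem F.core) (pr₁ (preimageAlong θ P')) (fun x => u * x * u⁻¹) :=
      map_conjBy (pr_le hpre).1 hu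
    have h₂ : Map E (pr₂ (preimageAlong θ P')) g := (c.pr₂_pre hθ hP).symm ▸ hgE
    obtain ⟨φ, hφ, he⟩ := (prod_map_iff hD₀).2 ⟨hpre, _, g, h₁, h₂, fun x _ => rfl⟩
    refine ⟨hP, φ, hφ, hpre, fun x => (D₀.le_of_mem hφ).2 x,
      fun x => ?_, fun x => ?_⟩
    · obtain ⟨hxm, hxP⟩ := (mem_pre hθ).1 x.2
      rwa [hθ]
    obtain ⟨hxm, hxP⟩ := (mem_pre hθ).1 x.2
    have hx2 : (x : Ω × Ω).2 ∈ P' ⊔ F.core := ((c.pr₂_pre hθ hP).le (mem_pr₂ x.2)).1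
    refine Eq.trans ?_ (hθ _).symm
    rw [← fn_coe φ' _]
    show fn φ' (θ ⟨x, _⟩) = _
    rw [hθ]
    show fn φ' ((x : Ω × Ω).1 * (x : Ω × Ω).2) = (φ x).1 * (φ x).2
    rw [hgφ _ hxP, he x, hg.map_mul (Subgroup.mem_sup_right hxm.1) hx2, hgQ _ hxm.1]
    show u * ((x : Ω × Ω).1 * g (x : Ω × Ω).2) * u⁻¹ = u * (x : Ω × Ω).1 * u⁻¹ * g (x : Ω × Ω).2
    rw [mul_assoc (u * (x : Ω × Ω).1), c.comm (F.core.inv_mem hu) (hgE.mem ((c.pr₂_pre hθ hP).le (mem_pr₂ x.2)))]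
    group
  · rintro ⟨hP, φ, hφ, hpre, hm, hm', hind⟩
    obtain ⟨-, f₁, f₂, h₁, h₂, he⟩ := (prod_map_iff hD₀).1 (map_of_mem hφ)
    obtain ⟨φ₁, ⟨-, u, hu, hu'⟩, he₁⟩ := h₁
    obtain ⟨g, hg, hgf, hgQ⟩ := c.ext _ _ h₂
    have hle : P' ⊔ F.core ≤ pr₂ (preimageAlong θ P') ⊔ F.core := by
      refine sup_le (fun a ha => ?_) le_sup_right
      obtain ⟨q, hq, t, ht, rfl⟩ := c.exists_split (hP ha)
      exact Subgroup.mul_mem _ (Subgroup.mem_sup_right hq)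
        (Subgroup.mem_sup_left (mem_pr₂ (P := preimageAlong θ P') (x := (q, t)) ((mem_pre hθ).2 ⟨⟨hq, ht⟩, ha⟩)))
    have hgE : Map E ((P' ⊔ F.core) ⊓ T) g :=
      c.pr₂_pre hθ hP ▸ h₂.congr fun x hx => (hgf x hx).symm
    have hd : c.DMap P' (fn φ') := by
      refine ⟨hP, u, hu, g, hg.restrict hle, hgQ, hgE, fun a ha => ?_⟩
      obtain ⟨q, hq, t, ht, rfl⟩ := c.exists_split (hP ha)
      have hx : ((q, t) : Ω × Ω) ∈ preimageAlong θ P' := (mem_pre hθ).2 ⟨⟨hq, ht⟩, ha⟩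
      have h3 := hind ⟨(q, t), hx⟩
      rw [← fn_coe φ'] at h3
      have h4 := he (q, t) hx
      rw [fn_apply φ hx] at h4
      simp only [hθ, h4] at h3
      rw [h3, ← he₁ ⟨q, mem_pr₁ hx⟩, hu', ← hgf t (mem_pr₂ hx), hg.map_mul (Subgroup.mem_sup_right hq)
        (Subgroup.mem_sup_left (mem_pr₂ hx)), hgQ q hq]
      show u * q * u⁻¹ * g t = u * (q * g t) * u⁻¹
      rw [mul_assoc (u * q), c.comm (F.core.inv_mem hu) (hgf t (mem_pr₂ hx) ▸ h₂.mem (mem_pr₂ hx))]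
      group
    exact ⟨hd.toMap.mem_hom fun x => (fn_coe φ' x).symm, hd⟩

theorem Ctx.isFactor {Z : Subgroup (Ω × Ω)} (hZ : Z ≤ F.core.prod T)
    (hker : ∀ x : ↥(F.core.prod T), θ x = 1 ↔ (x : Ω × Ω) ∈ Z) : D₀.IsFactorSystem Z θ c.sys :=
  ⟨hZ, hker, c.range_eq hθ, fun _ _ => c.hom_iff hD₀ hθ⟩

theorem Ctx.sys_saturated {Z : Subgroup (Ω × Ω)} (hZc : Z ≤ D₀.center)
    (hfac : D₀.IsFactorSystem Z θ c.sys) : c.sys.IsSaturated p := by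
  haveI := finite_of_le c.qS
  haveI := finite_of_le c.tT.1
  haveI : Finite ↥(F.core.prod T) := Finite.of_equiv _ (Subgroup.prodEquiv F.core T).toEquiv.symm
  have hTp : IsPGroup p T := c.pS.to_le c.tT.1
  have hQp : IsPGroup p F.core := c.pS.to_le c.qS
  have hp : IsPGroup p ↥(F.core.prod T) := by
    obtain ⟨a, ha⟩ := IsPGroup.iff_card.1 hQp
    obtain ⟨b, hb⟩ := IsPGroup.iff_card.1 hTp
    refine IsPGroup.of_card (n := a + b) ?_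
    rw [Nat.card_congr (Subgroup.prodEquiv F.core T).toEquiv, Nat.card_prod, ha, hb, pow_add]
  have hDs : D₀.IsSaturated p :=
    prod_saturated hQp hTp ((normal_iff_inner_weaklyNormal c.pS c.sat c.qS).1 c.qN).1 c.normal.1.1 hD₀
  have hcl : D₀.StronglyClosed Z := stronglyClosed_iff.2 ⟨hfac.1, fun R f hR hf x hx => by
    rw [center_fixed D₀ (hZc (hR hx)) hf hx]; exact hR hx⟩
  exact fac_saturated hp hDs hcl hfac

theorem Ctx.sys_normal {Z : Subgroup (Ω × Ω)} (hZc : Z ≤ D₀.center)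
    (hfac : D₀.IsFactorSystem Z θ c.sys) : c.sys.IsNormalIn F p :=
  ⟨⟨c.sys_saturated hD₀ hθ hZc hfac, c.sat, c.sys_invariant⟩, fun _ ha => c.sys_extension ha⟩

end Cfsg.Agent.Local.FS.Fitting
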